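import Groth.Agent.AssLib.Basic
import Groth.Agent.CAlgOdd.AssTensor
import Groth.Agent.KFlatLib.Scheme.TensorStalk
import Groth.Agent.KFlatLib.Scheme.Pullback
import Groth.Prelude.Def_MoreMor
import Groth.Prelude.Def_FlatMod2

/-!
# Associated points of a tensor product with a flat module
-/

set_option autoImplicit false
set_option linter.style.haveILetI false
set_option linter.unusedSectionVars false
set_option backward.isDefEq.respectTransparency false
set_option backward.isDefEq.respectTransparency.types false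

universe u

open CategoryTheory AlgebraicGeometry IsLocalRing TensorProduct

namespace Groth.Agent.AssTensorSch

section Alg

variable {R S : Type u} [CommRing R] [IsLocalRing R] [IsNoetherianRing R] [CommRing S] [IsLocalRing S] [Algebra R S]
  [IsLocalHom (algebraMap R S)] (N : Type u) [AddCommGroup N] [Module S N] [Module R N] [IsScalarTower R S N]
  [Module.Flat R N] (M : Type u) [AddCommGroup M] [Module R M]

/-- The closed point is associated to `N ⊗ M` iff it is associated to `N ⊗ k` and the closed point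
below is associated to `M`. -/
theorem maximal_mem_ass_tensor_iff :
    maximalIdeal S ∈ associatedPrimes S (N ⊗[R] M) ↔ maximalIdeal R ∈ associatedPrimes R M ∧
      maximalIdeal S ∈ associatedPrimes S (N ⧸ (maximalIdeal R).map (algebraMap R S) • (⊤ : Submodule S N)) := by
  rw [CAlgOdd.AssTensor.associatedPrimes_eq (S := S) N M]
  simp only [Set.mem_iUnion, exists_prop]
  refine ⟨fun ⟨p, hp, hq⟩ => ?_, fun ⟨h1, h2⟩ => ⟨_, h1, h2⟩⟩
  haveI := hp.isPrime
  obtain ⟨θ⟩ := CAlgOdd.AssTensor.exists_equiv (S := S) N p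
  have h := CAlgOdd.AssTensor.mem_ass_of_mem N (R ⧸ p) (θ.isAssociatedPrime_iff.1 hq)
  have he : (maximalIdeal S).comap (algebraMap R S) = p :=
    (IsAssociatedPrime.eq_radical hp.isPrime.isPrimary h).trans hp.isPrime.radical
  rw [IsLocalRing.maximalIdeal_comap (algebraMap R S)] at he
  subst he
  exact ⟨hp, hq⟩

end Alg

variable {X Y : Scheme.{u}} (f : X ⟶ Y) (E : Y.Modules) (F : X.Modules)

theorem mem_ass_tensor_stalk_iff (x : X) :
    letI := (f.stalkMap x).hom.toAlgebra
    letI := FlatMod.moduleStalkOver f F x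
    haveI : IsScalarTower (Y.presheaf.stalk (f x)) (X.presheaf.stalk x) (F.presheaf.stalk x) :=
      IsScalarTower.of_algebraMap_smul fun _ _ => rfl
    x ∈ AssSch.Ass (CohB1.tensorMod ((Scheme.Modules.pullback f).obj E) F) ↔
      maximalIdeal (X.presheaf.stalk x) ∈
        associatedPrimes (X.presheaf.stalk x) (F.presheaf.stalk x ⊗[Y.presheaf.stalk (f x)] E.presheaf.stalk (f x)) := by
  letI := (f.stalkMap x).hom.toAlgebra
  letI := FlatMod.moduleStalkOver f F x
  haveI : IsScalarTower (Y.presheaf.stalk (f x)) (X.presheaf.stalk x) (F.presheaf.stalk x) :=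
    IsScalarTower.of_algebraMap_smul fun _ _ => rfl
  let R := Y.presheaf.stalk (f x)
  let S := X.presheaf.stalk x
  let e₀ : ((Scheme.Modules.pullback f).obj E).presheaf.stalk x ≃ₗ[S] (S ⊗[R] E.presheaf.stalk (f x)) :=
    ((KFlatLib.stalkPullbackIso f x).app E).toLinearEquiv
  let e₁ : ((((Scheme.Modules.pullback f).obj E).presheaf.stalk x) ⊗[S] F.presheaf.stalk x) ≃ₗ[S]
      (CohB1.tensorMod ((Scheme.Modules.pullback f).obj E) F).presheaf.stalk x :=
    (KFlatLib.stalkTensorIso x ((Scheme.Modules.pullback f).obj E) F).toLinearEquiv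
  let e : (CohB1.tensorMod ((Scheme.Modules.pullback f).obj E) F).presheaf.stalk x ≃ₗ[S]
      F.presheaf.stalk x ⊗[R] E.presheaf.stalk (f x) :=
    e₁.symm ≪≫ₗ TensorProduct.congr e₀ (LinearEquiv.refl S _) ≪≫ₗ TensorProduct.comm S _ _ ≪≫ₗ
      AlgebraTensorModule.cancelBaseChange R S S (F.presheaf.stalk x) (E.presheaf.stalk (f x))
  rw [AssLib.mem_ass_def, LinearEquiv.AssociatedPrimes.eq e]

/-- Associated points of `f^*E ⊗ F` for `F` flat over the base. -/
theorem mem_ass_tensor_iff (hfl : FlatMod.IsFlatOver f F) (x : X) [IsNoetherianRing (Y.presheaf.stalk (f x))] :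
    x ∈ AssSch.Ass (CohB1.tensorMod ((Scheme.Modules.pullback f).obj E) F) ↔
      f x ∈ AssSch.Ass E ∧ x ∈ MoreMor.relAss f F := by
  letI := (f.stalkMap x).hom.toAlgebra
  letI := FlatMod.moduleStalkOver f F x
  haveI : IsScalarTower (Y.presheaf.stalk (f x)) (X.presheaf.stalk x) (F.presheaf.stalk x) :=
    IsScalarTower.of_algebraMap_smul fun _ _ => rfl
  haveI : IsLocalHom (algebraMap (Y.presheaf.stalk (f x)) (X.presheaf.stalk x)) :=
    inferInstanceAs (IsLocalHom (f.stalkMap x).hom)
  haveI : Module.Flat (Y.presheaf.stalk (f x)) (F.presheaf.stalk x) := hfl x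
  rw [mem_ass_tensor_stalk_iff, maximal_mem_ass_tensor_iff]
  rfl

end Groth.Agent.AssTensorSch
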