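import Groth.Agent.AssTensorSch.Prod
import Groth.Agent.AssLib.FlatFibre

/-!
# Associated points and embedded points of external tensor products
-/

set_option autoImplicit false
set_option linter.style.haveILetI false
set_option linter.unusedSectionVars false
set_option backward.isDefEq.respectTransparency false
set_option backward.isDefEq.respectTransparency.types false

universe u

open CategoryTheory CategoryTheory.Limits AlgebraicGeometry IsLocalRing TensorProduct

namespace Groth.Agent.AssTensorSch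

/-- Associated points of a module flat over a locally Noetherian base. -/
theorem mem_ass_iff_of_flat {X Y : Scheme.{u}} [IsLocallyNoetherian Y] (f : X ⟶ Y) (F : X.Modules)
    (hfl : FlatMod.IsFlatOver f F) (x : X) :
    x ∈ AssSch.Ass F ↔ f x ∈ AssSch.Ass (Coh.structureModule Y) ∧ x ∈ MoreMor.relAss f F := by
  letI := (f.stalkMap x).hom.toAlgebra
  letI := FlatMod.moduleStalkOver f F x
  let R := Y.presheaf.stalk (f x)
  let S := X.presheaf.stalk x
  haveI : IsScalarTower R S (F.presheaf.stalk x) := IsScalarTower.of_algebraMap_smul fun _ _ => rfl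
  haveI : IsLocalHom (algebraMap R S) := inferInstanceAs (IsLocalHom (f.stalkMap x).hom)
  haveI : Module.Flat R (F.presheaf.stalk x) := hfl x
  rw [AssLib.mem_ass_def, AssLib.mem_ass_def,
    ← LinearEquiv.AssociatedPrimes.eq (AlgebraTensorModule.rid R S (F.presheaf.stalk x)),
    maximal_mem_ass_tensor_iff, LinearEquiv.AssociatedPrimes.eq (KFlatLib.stalkUnitEquiv (X := Y) (f x))]
  rfl

variable {X Y S : Scheme.{u}} (f : X ⟶ S) (g : Y ⟶ S)

theorem apply_fibSnd (x : X) (w : ↥((pullback.fst f g).fiber x)) :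
    g.fiberι (f x) (fibToFib f g x w) = fibSnd f g x w := by
  rw [← Scheme.Hom.comp_apply, fibToFib_fiberι]

/-- The fibres over pairs of points have no embedded associated points. -/
theorem eq_of_specializes_residueProd (x : X) (y : Y) (hxy : g y = f x)
    {t t' : ↥(pullback (X.fromSpecResidueField x ≫ f) (Y.fromSpecResidueField y ≫ g))}
    (ht : AssLib.DepthZero ((pullback (X.fromSpecResidueField x ≫ f) (Y.fromSpecResidueField y ≫ g)).presheaf.stalk t))
    (h : t' ⤳ t) : t' = t := by
  let j := S.fromSpecResidueField (f x)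
  obtain ⟨a, ha⟩ : ∃ a : Spec (X.residueField x) ⟶ Spec (S.residueField (f x)), a ≫ j = X.fromSpecResidueField x ≫ f :=
    ⟨_, Scheme.Hom.SpecMap_residueFieldMap_fromSpecResidueField f x⟩
  obtain ⟨b, hb⟩ : ∃ b : Spec (Y.residueField y) ⟶ Spec (S.residueField (f x)), b ≫ j = Y.fromSpecResidueField y ≫ g := by
    show ∃ b : Spec (Y.residueField y) ⟶ Spec (S.residueField (f x)), b ≫ S.fromSpecResidueField (f x) = _
    rw [← hxy]
    exact ⟨_, Scheme.Hom.SpecMap_residueFieldMap_fromSpecResidueField g y⟩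
  let T := pullback (X.fromSpecResidueField x ≫ f) (Y.fromSpecResidueField y ≫ g)
  let e : T ≅ pullback a b :=
    { hom := pullback.lift (pullback.fst _ _) (pullback.snd _ _) (by
        rw [← cancel_mono j, Category.assoc, Category.assoc, ha, hb]; exact pullback.condition)
      inv := pullback.lift (pullback.fst _ _) (pullback.snd _ _) (by
        rw [← ha, ← hb, ← Category.assoc, ← Category.assoc, pullback.condition])
      hom_inv_id := by apply pullback.hom_ext <;> simp
      inv_hom_id := by apply pullback.hom_ext <;> simp }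
  haveI : IsIso e.hom := e.isIso_hom
  apply e.hom.homeomorph.injective
  haveI : IsIntegral (Spec (X.residueField x)) := inferInstance
  haveI : IsIntegral (Spec (Y.residueField y)) := inferInstance
  refine AssLib.eq_of_depthZero_product (k := S.residueField (f x)) a b (z := e.hom t) ?_ (Subsingleton.elim _ _)
    (Subsingleton.elim _ _) (z' := e.hom t') (h.map e.hom.continuous)
  exact AssLib.DepthZero.of_equiv (CategoryTheory.asIso (e.hom.stalkMap t)).commRingCatIsoToRingEquiv.symm ht

variable [IsLocallyNoetherian X] [IsLocallyNoetherian Y] (F : X.Modules) (G : Y.Modules)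

theorem ass_prod_eq (hGfl : FlatMod.IsFlatOver g G) :
    AssSch.Ass (CohB1.tensorMod ((Scheme.Modules.pullback (pullback.fst f g)).obj F) ((Scheme.Modules.pullback (pullback.snd f g)).obj G)) =
      ⋃ (x : ↥X) (_ : x ∈ AssSch.Ass F) (y' : ↥(g.fiber (f x)))
        (_ : y' ∈ AssSch.Ass ((Scheme.Modules.pullback (g.fiberι (f x))).obj G)) (y : ↥Y) (_ : y = g.fiberι (f x) y'),
        residueProdι f g x y ''
          AssSch.Ass (Coh.structureModule (pullback (X.fromSpecResidueField x ≫ f) (Y.fromSpecResidueField y ≫ g))) := by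
  ext z
  rw [mem_ass_prod_iff f g F G hGfl]
  simp only [Set.mem_iUnion, exists_prop]
  constructor
  · rintro ⟨x, w, rfl, hx, h1, h2⟩
    exact ⟨x, hx, _, h1, _, rfl, (mem_image_residueProd_iff f g x _ w).2 ⟨(apply_fibSnd f g x w).symm, h2⟩⟩
  · rintro ⟨x, hx, y', hy', y, rfl, hz⟩
    obtain ⟨w, rfl⟩ : z ∈ Set.range ((pullback.fst f g).fiberι x) := by
      rw [Scheme.Hom.range_fiberι]
      obtain ⟨t, -, rfl⟩ := hz
      show pullback.fst f g (residueProdι f g x _ t) = x
      rw [← Scheme.Hom.comp_apply, pullback.lift_fst, Scheme.Hom.comp_apply, Scheme.fromSpecResidueField_apply]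
    obtain ⟨h1, h2⟩ := (mem_image_residueProd_iff f g x _ w).1 hz
    rw [← apply_fibSnd] at h1
    obtain rfl := (g.fiberι (f x)).isEmbedding.injective h1
    exact ⟨x, w, rfl, hx, hy', h2⟩

theorem ass_prod_eq' [IsLocallyNoetherian S] (hGfl : FlatMod.IsFlatOver g G)
    (hAss : ∀ x ∈ AssSch.Ass F, f x ∈ AssSch.Ass (Coh.structureModule S)) :
    AssSch.Ass (CohB1.tensorMod ((Scheme.Modules.pullback (pullback.fst f g)).obj F) ((Scheme.Modules.pullback (pullback.snd f g)).obj G)) =
      ⋃ (x : ↥X) (_ : x ∈ AssSch.Ass F) (y : ↥Y) (_ : y ∈ AssSch.Ass G) (_ : f x = g y),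
        residueProdι f g x y ''
          AssSch.Ass (Coh.structureModule (pullback (X.fromSpecResidueField x ≫ f) (Y.fromSpecResidueField y ≫ g))) := by
  rw [ass_prod_eq f g F G hGfl]
  ext z
  simp only [Set.mem_iUnion, exists_prop]
  refine exists_congr fun x => and_congr_right fun hx => ?_
  constructor
  · rintro ⟨y', hy', y, rfl, hz⟩
    have hgy : g (g.fiberι (f x) y') = f x := FlatDvr.fiberι_apply_eq g y'
    exact ⟨_, (mem_ass_iff_of_flat g G hGfl _).2 ⟨hgy.symm ▸ hAss x hx, (mem_relAss_iff_fib g G _ y').2 hy'⟩,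
      hgy.symm, hz⟩
  · rintro ⟨y, hy, hxy, hz⟩
    obtain ⟨y', rfl⟩ : y ∈ Set.range (g.fiberι (f x)) := by rw [Scheme.Hom.range_fiberι]; exact hxy.symm
    exact ⟨y', (mem_relAss_iff_fib g G _ y').1 ((mem_ass_iff_of_flat g G hGfl _).1 hy).2, _, rfl, hz⟩

theorem noEmbedded_prod [IsLocallyNoetherian (pullback f g)] (hGfl : FlatMod.IsFlatOver g G)
    (hFne : AssSch.NoEmbedded F)
    (hG : ∀ x ∈ AssSch.Ass F, ∀ a ∈ AssSch.Ass ((Scheme.Modules.pullback (g.fiberι (f x))).obj G),
      ∀ b ∈ AssSch.Ass ((Scheme.Modules.pullback (g.fiberι (f x))).obj G), b ⤳ a → a = b) :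
    AssSch.NoEmbedded (CohB1.tensorMod ((Scheme.Modules.pullback (pullback.fst f g)).obj F) ((Scheme.Modules.pullback (pullback.snd f g)).obj G)) := by
  intro z hz z' hz' hsp
  rw [mem_ass_prod_iff f g F G hGfl] at hz hz'
  obtain ⟨x, w, rfl, hx, hq, hrel⟩ := hz
  obtain ⟨x', w', rfl, hx', hq', hrel'⟩ := hz'
  obtain rfl : x = x' := hFne x hx x' hx' (by
    have := hsp.map (pullback.fst f g).continuous
    rwa [FlatDvr.fiberι_apply_eq, FlatDvr.fiberι_apply_eq] at this)
  have hw : w' ⤳ w := ((pullback.fst f g).fiberι x).isEmbedding.isInducing.specializes_iff.1 hsp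
  have hy : fibSnd f g x w' = fibSnd f g x w := by
    rw [← apply_fibSnd, ← apply_fibSnd, hG x hx _ hq _ hq' (hw.map (fibToFib f g x).continuous)]
  obtain ⟨t, ht, hte⟩ := (mem_image_residueProd_iff f g x (fibSnd f g x w) w).2 ⟨rfl, hrel⟩
  obtain ⟨e, he⟩ := exists_residueProd_iso f g x (fibSnd f g x w)
  obtain ⟨t', -, hte'⟩ := (mem_image_residueProd_iff f g x (fibSnd f g x w) w').2 ⟨hy, hrel'⟩
  have hemb : IsPreimmersion (residueProdι f g x (fibSnd f g x w)) := by
    rw [← Iso.inv_hom_id_assoc e (residueProdι f g x (fibSnd f g x w)), he]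
    infer_instance
  have hnoeth := isNoetherianRing_stalk_of_preimmersion (residueProdι f g x (fibSnd f g x w)) t
  rw [← hte, ← hte'] at hsp
  rw [← hte, ← hte', eq_of_specializes_residueProd f g x (fibSnd f g x w)
    (by rw [← apply_fibSnd]; exact FlatDvr.fiberι_apply_eq g _) ?_
    ((residueProdι f g x (fibSnd f g x w)).isEmbedding.isInducing.specializes_iff.1 hsp)]
  rw [AssLib.depthZero_iff]
  have he' := LinearEquiv.AssociatedPrimes.eq (KFlatLib.stalkUnitEquiv t)
  exact he'.ge ht

end Groth.Agent.AssTensorSch
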