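import Groth.Agent.AssTensorSch.Fibre
import Groth.Agent.AssLib.FlatField
import Groth.Agent.MorLib.FlatBC

/-!
# Associated points of an external tensor product (EGA IV 3.3.6, 4.2.5)
-/

set_option autoImplicit false
set_option linter.style.haveILetI false
set_option linter.unusedSectionVars false
set_option backward.isDefEq.respectTransparency false
set_option backward.isDefEq.respectTransparency.types false

universe u

open CategoryTheory CategoryTheory.Limits AlgebraicGeometry IsLocalRing

namespace Groth.Agent.AssTensorSch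

variable {X Y S : Scheme.{u}} (f : X ⟶ S) (g : Y ⟶ S)

/-- The projection from the fibre over `x` of the first projection to the fibre of `g`. -/
noncomputable def fibToFib (x : X) : (pullback.fst f g).fiber x ⟶ g.fiber (f x) :=
  pullback.lift ((pullback.fst f g).fiberι x ≫ pullback.snd f g)
    ((pullback.fst f g).fiberToSpecResidueField x ≫ Spec.map (f.residueFieldMap x))
    (by
      rw [Category.assoc, ← pullback.condition, Category.assoc,
        Scheme.Hom.SpecMap_residueFieldMap_fromSpecResidueField, ← Category.assoc, ← Category.assoc]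
      congr 1
      exact pullback.condition)

theorem fibToFib_fiberι (x : X) :
    fibToFib f g x ≫ g.fiberι (f x) = (pullback.fst f g).fiberι x ≫ pullback.snd f g :=
  pullback.lift_fst _ _ _

theorem fibToFib_toSpec (x : X) :
    fibToFib f g x ≫ g.fiberToSpecResidueField (f x) =
      (pullback.fst f g).fiberToSpecResidueField x ≫ Spec.map (f.residueFieldMap x) :=
  pullback.lift_snd _ _ _

instance flat_fibToFib (x : X) : Flat (fibToFib f g x) := by
  have h2 : IsPullback (g.fiberι (f x)) (g.fiberToSpecResidueField (f x)) g (S.fromSpecResidueField (f x)) :=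
    IsPullback.of_hasPullback g (S.fromSpecResidueField (f x))
  have h0 : IsPullback ((pullback.fst f g).fiberι x ≫ pullback.snd f g)
      ((pullback.fst f g).fiberToSpecResidueField x) g (X.fromSpecResidueField x ≫ f) :=
    (IsPullback.of_hasPullback (pullback.fst f g) (X.fromSpecResidueField x)).paste_horiz
      (IsPullback.of_hasPullback f g).flip
  rw [← fibToFib_fiberι, ← Scheme.Hom.SpecMap_residueFieldMap_fromSpecResidueField] at h0
  have h1 := IsPullback.of_right h0 (fibToFib_toSpec f g x) h2
  exact MorphismProperty.of_isPullback (P := @Flat) h1.flip (AssLib.flat_over_field (k := S.residueField (f x)) _)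

/-- The morphism to the product whose fibres are the spectra of tensor products of residue fields. -/
noncomputable abbrev residueProdι (x : X) (y : Y) :
    pullback (X.fromSpecResidueField x ≫ f) (Y.fromSpecResidueField y ≫ g) ⟶ pullback f g :=
  pullback.map (X.fromSpecResidueField x ≫ f) (Y.fromSpecResidueField y ≫ g) f g (X.fromSpecResidueField x)
    (Y.fromSpecResidueField y) (𝟙 S) (Category.comp_id _) (Category.comp_id _)

/-- The second projection on the fibre over `x`. -/
noncomputable abbrev fibSnd (x : X) : (pullback.fst f g).fiber x ⟶ Y :=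
  (pullback.fst f g).fiberι x ≫ pullback.snd f g

/-- The fibre over `(x, y)` as the spectrum of the tensor product of the residue fields. -/
theorem exists_residueProd_iso (x : X) (y : Y) :
    ∃ e : (fibSnd f g x).fiber y ≅ pullback (X.fromSpecResidueField x ≫ f) (Y.fromSpecResidueField y ≫ g),
      e.hom ≫ residueProdι f g x y = (fibSnd f g x).fiberι y ≫ (pullback.fst f g).fiberι x := by
  let q := fibSnd f g x
  let p := pullback.fst f g
  let T := pullback (X.fromSpecResidueField x ≫ f) (Y.fromSpecResidueField y ≫ g)
  let a : T ⟶ p.fiber x := pullback.lift (residueProdι f g x y) (pullback.fst _ _) (pullback.lift_fst _ _ _)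
  have ha : a ≫ p.fiberι x = residueProdι f g x y := pullback.lift_fst _ _ _
  let b : T ⟶ q.fiber y := pullback.lift a (pullback.snd _ _) (by
    rw [show a ≫ q = (a ≫ p.fiberι x) ≫ pullback.snd f g from (Category.assoc _ _ _).symm, ha]
    exact pullback.lift_snd _ _ _)
  have hb : b ≫ q.fiberι y = a := pullback.lift_fst _ _ _
  let c : q.fiber y ⟶ T := pullback.lift (q.fiberι y ≫ p.fiberToSpecResidueField x) (q.fiberToSpecResidueField y) (by
    have h1 : p.fiberι x ≫ p = p.fiberToSpecResidueField x ≫ X.fromSpecResidueField x := pullback.condition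
    have h2 : q.fiberι y ≫ q = q.fiberToSpecResidueField y ≫ Y.fromSpecResidueField y := pullback.condition
    calc (q.fiberι y ≫ p.fiberToSpecResidueField x) ≫ X.fromSpecResidueField x ≫ f
        = q.fiberι y ≫ (p.fiberι x ≫ p) ≫ f := by rw [h1]; simp only [Category.assoc]
      _ = q.fiberι y ≫ p.fiberι x ≫ pullback.snd f g ≫ g := by
          rw [Category.assoc, show p ≫ f = pullback.snd f g ≫ g from pullback.condition]
      _ = (q.fiberι y ≫ q) ≫ g := by simp only [q, fibSnd, Category.assoc]; rfl
      _ = q.fiberToSpecResidueField y ≫ Y.fromSpecResidueField y ≫ g := by rw [h2, Category.assoc])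
  have hc : c ≫ residueProdι f g x y = q.fiberι y ≫ p.fiberι x := by
    have h1 : p.fiberι x ≫ p = p.fiberToSpecResidueField x ≫ X.fromSpecResidueField x := pullback.condition
    have h2 : q.fiberι y ≫ q = q.fiberToSpecResidueField y ≫ Y.fromSpecResidueField y := pullback.condition
    apply pullback.hom_ext
    · rw [Category.assoc, pullback.lift_fst, ← Category.assoc, pullback.lift_fst, Category.assoc, ← h1,
        ← Category.assoc]
    · rw [Category.assoc, pullback.lift_snd, ← Category.assoc, pullback.lift_snd, ← h2, Category.assoc]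
  refine ⟨⟨c, b, ?_, ?_⟩, hc⟩
  · rw [← cancel_mono (q.fiberι y), ← cancel_mono (p.fiberι x), Category.id_comp, Category.assoc c b _, hb,
      Category.assoc, ha, hc]
  · apply pullback.hom_ext
    · rw [Category.assoc, pullback.lift_fst, ← Category.assoc, hb, Category.id_comp]
      exact pullback.lift_snd _ _ _
    · rw [Category.assoc, pullback.lift_snd, Category.id_comp]
      exact pullback.lift_snd _ _ _

theorem mem_image_residueProd_iff (x : X) (y : Y) (w : ↥((pullback.fst f g).fiber x)) :
    (pullback.fst f g).fiberι x w ∈ residueProdι f g x y '' AssSch.Ass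
        (Coh.structureModule (pullback (X.fromSpecResidueField x ≫ f) (Y.fromSpecResidueField y ≫ g))) ↔
      fibSnd f g x w = y ∧ w ∈ relAssO (fibSnd f g x) := by
  obtain ⟨e, he⟩ := exists_residueProd_iso f g x y
  have hass : ∀ t, e.hom t ∈ AssSch.Ass (Coh.structureModule _) ↔
      t ∈ AssSch.Ass (Coh.structureModule ((fibSnd f g x).fiber y)) := fun t => by
    rw [AssLib.mem_ass_def, AssLib.mem_ass_def]
    exact isAssociatedPrime_maximal_congr (e.hom.stalkMap t).hom (e.hom.stalkMap_surjective t)
      (((KFlatLib.stalkUnitEquiv (e.hom t)).toAddEquiv.symm.trans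
        (CategoryTheory.asIso (e.hom.stalkMap t)).commRingCatIsoToRingEquiv.toAddEquiv).trans
          (KFlatLib.stalkUnitEquiv t).toAddEquiv) fun r z => by
      show (KFlatLib.stalkUnitEquiv t) ((e.hom.stalkMap t).hom ((KFlatLib.stalkUnitEquiv (e.hom t)).symm (r • z))) = _
      rw [LinearEquiv.map_smul, smul_eq_mul, map_mul, ← smul_eq_mul, LinearEquiv.map_smul]
      rfl
  constructor
  · rintro ⟨t', ht', hw⟩
    obtain ⟨t, rfl⟩ := e.hom.homeomorph.surjective t'
    rw [show residueProdι f g x y (e.hom.homeomorph t) = (e.hom ≫ residueProdι f g x y) t from rfl, he] at hw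
    obtain rfl := ((pullback.fst f g).fiberι x).isEmbedding.injective hw
    exact ⟨FlatDvr.fiberι_apply_eq _ t, (mem_relAssO_iff_fib (fibSnd f g x) y t).2 ((hass t).1 ht')⟩
  · rintro ⟨hy, hw⟩
    obtain ⟨t, rfl⟩ : w ∈ Set.range ((fibSnd f g x).fiberι y) := by rw [Scheme.Hom.range_fiberι]; exact hy
    refine ⟨e.hom t, (hass t).2 ((mem_relAssO_iff_fib (fibSnd f g x) y t).1 hw), ?_⟩
    show (e.hom ≫ residueProdι f g x y) t = _
    rw [he]
    rfl

variable [IsLocallyNoetherian X] [IsLocallyNoetherian Y] (F : X.Modules) (G : Y.Modules)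

theorem mem_ass_prod_iff (hGfl : FlatMod.IsFlatOver g G) (z : ↥(pullback f g)) :
    z ∈ AssSch.Ass (CohB1.tensorMod ((Scheme.Modules.pullback (pullback.fst f g)).obj F)
        ((Scheme.Modules.pullback (pullback.snd f g)).obj G)) ↔
      ∃ (x : X) (w : ↥((pullback.fst f g).fiber x)), (pullback.fst f g).fiberι x w = z ∧ x ∈ AssSch.Ass F ∧
        fibToFib f g x w ∈ AssSch.Ass ((Scheme.Modules.pullback (g.fiberι (f x))).obj G) ∧
        w ∈ relAssO (fibSnd f g x) := by
  let p := pullback.fst f g
  let G' := (Scheme.Modules.pullback (pullback.snd f g)).obj G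
  have hfl : FlatMod.IsFlatOver p G' := fun z =>
    MorLib.FlatBC.isFlatOverAt_baseChange g p (pullback.snd f g) f (IsPullback.of_hasPullback f g).flip G z (hGfl _)
  have key : ∀ (x : X) (w : ↥(p.fiber x)), p.fiberι x w ∈ MoreMor.relAss p G' ↔
      fibToFib f g x w ∈ AssSch.Ass ((Scheme.Modules.pullback (g.fiberι (f x))).obj G) ∧
        w ∈ relAssO (fibSnd f g x) := by
    intro x w
    let q := fibToFib f g x
    have e : (Scheme.Modules.pullback (p.fiberι x)).obj G' ≅
        (Scheme.Modules.pullback q).obj ((Scheme.Modules.pullback (g.fiberι (f x))).obj G) :=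
      (Scheme.Modules.pullbackComp (p.fiberι x) (pullback.snd f g)).app G ≪≫
        (Scheme.Modules.pullbackCongr (fibToFib_fiberι f g x).symm).app G ≪≫
        ((Scheme.Modules.pullbackComp q (g.fiberι (f x))).app G).symm
    haveI := isNoetherianRing_stalk_of_preimmersion (g.fiberι (f x)) (q w)
    rw [mem_relAss_iff_fib, mem_ass_congr e, mem_ass_pullback_iff,
      ← relAssO_comp_preimmersion q (g.fiberι (f x)), fibToFib_fiberι]
  rw [mem_ass_tensor_iff p F G' hfl]
  constructor
  · rintro ⟨hx, hz⟩
    obtain ⟨w, hw⟩ : z ∈ Set.range (p.fiberι (p z)) := by rw [Scheme.Hom.range_fiberι]; rfl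
    exact ⟨p z, w, hw, hx, (key _ w).1 (hw.symm ▸ hz)⟩
  · rintro ⟨x, w, rfl, hx, h⟩
    exact ⟨(FlatDvr.fiberι_apply_eq p w).symm ▸ hx, (key x w).2 h⟩

end Groth.Agent.AssTensorSch
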